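import Cfsg.Agent.Lib.CNCIT.Basic
import Cfsg.Agent.Lib.CIT.Basic
import Cfsg.Agent.Lib.Core.Nilpotent
import Cfsg.Agent.S0035
import Cfsg.Agent.S0042
import Cfsg.Agent.S0205
import Cfsg.Agent.S0215

/-!
Frobenius systems: every maximal solvable subgroup `M` comes with a normal subgroup `F M` which is
fixed-point-free from outside and trivially intersecting off `M`, non-trivial unless `M` is abelian.
A non-solvable group with such a system has no non-trivial normal solvable subgroup, and a Sylow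
2-subgroup lies in some `F M`.
-/

set_option autoImplicit false
set_option linter.unusedSectionVars false
set_option linter.style.haveILetI false

namespace Cfsg.Agent.Lib.FrobSystem

open Subgroup
open scoped Pointwise

universe u

variable {G : Type u} [Group G]

/-- A maximal solvable subgroup. -/
def IsMaxSolv (M : Subgroup G) : Prop :=
  Group.IsSolvable M ∧ ∀ M' : Subgroup G, M < M' → ¬ Group.IsSolvable M'

/-- A Frobenius system. -/
structure Sys (F : Subgroup G → Subgroup G) : Prop where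
  le : ∀ {M}, IsMaxSolv M → F M ≤ M
  norm : ∀ {M}, IsMaxSolv M → M ≤ Subgroup.normalizer (F M : Set G)
  free : ∀ {M}, IsMaxSolv M → ∀ a ∈ M, a ∉ F M → ∀ x ∈ F M, x * a = a * x → x = 1
  ti : ∀ {M}, IsMaxSolv M → ∀ g : G, g ∉ M → F M ⊓ (MulAut.conj g • F M) = ⊥
  ne_bot : ∀ {M}, IsMaxSolv M → F M ≠ ⊥ ∨ IsMulCommutative M

variable [Finite G]

theorem exists_isMaxSolv_ge {H : Subgroup G} (hH : Group.IsSolvable H) :
    ∃ M, IsMaxSolv M ∧ H ≤ M := by
  obtain ⟨M, ⟨hHM, hM⟩, hmax⟩ := Set.Finite.exists_maximal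
    (Set.toFinite {M : Subgroup G | H ≤ M ∧ Group.IsSolvable M}) ⟨H, le_rfl, hH⟩
  exact ⟨M, ⟨hM, fun M' hlt hs => hlt.not_ge (hmax ⟨hHM.trans hlt.le, hs⟩ hlt.le)⟩, hHM⟩

/-- A solvable subgroup times a normal solvable subgroup is solvable. -/
theorem isSolvable_sup {V H : Subgroup G} [V.Normal] (hV : Group.IsSolvable V)
    (hH : Group.IsSolvable H) : Group.IsSolvable ↥(H ⊔ V) := by
  haveI := hV
  haveI := hH
  haveI : Group.IsSolvable (H.map (QuotientGroup.mk' V)) :=
    solvable_of_surjective ((QuotientGroup.mk' V).subgroupMap_surjective H)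
  let f : ↥(H ⊔ V) →* ↥(H.map (QuotientGroup.mk' V)) :=
    ((QuotientGroup.mk' V).comp (H ⊔ V).subtype).codRestrict _ fun x => by
      obtain ⟨a, ha, b, hb, e⟩ := Subgroup.mem_sup_of_normal_right.mp x.2
      refine ⟨a, ha, ?_⟩
      show (QuotientGroup.mk a : G ⧸ V) = QuotientGroup.mk (x : G)
      rw [← e, QuotientGroup.mk_mul, (QuotientGroup.eq_one_iff b).mpr hb, mul_one]
  refine solvable_of_ker_le_range (Subgroup.inclusion (le_sup_right : V ≤ H ⊔ V)) f fun x hx => ?_
  have hxV : (x : G) ∈ V := (QuotientGroup.eq_one_iff _).mp (congrArg Subtype.val hx)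
  exact ⟨⟨x, hxV⟩, rfl⟩

/-- If the normalizer of a Sylow 2-subgroup centralises it, the group is solvable. -/
theorem isSolvable_of_burnside (S : Sylow 2 G)
    (hS : Subgroup.normalizer ((S : Subgroup G) : Set G) ≤ Subgroup.centralizer ((S : Subgroup G) : Set G)) :
    Group.IsSolvable G := by
  haveI : Fact (Nat.Prime 2) := ⟨Nat.prime_two⟩
  have hc := MonoidHom.ker_transferSylow_isComplement' S hS
  set K := (MonoidHom.transferSylow S hS).ker
  haveI : Group.IsSolvable K := Cfsg.Agent.S0205.result (by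
    rw [← hc.index_eq_card, Nat.odd_iff, ← Nat.two_dvd_ne_zero]
    exact S.not_dvd_index)
  haveI : Group.IsNilpotent (S : Subgroup G) := S.isPGroup'.isNilpotent
  exact solvable_of_ker_le_range K.subtype (MonoidHom.transferSylow S hS) (by simp [K])

namespace Sys

variable {F : Subgroup G → Subgroup G} (hF : Sys F)
include hF

/-- The centraliser of a non-trivial element of `F M` lies in `F M`. -/
theorem cent {M : Subgroup G} (hM : IsMaxSolv M) {x : G} (hx : x ∈ F M) (hx1 : x ≠ 1) :
    Subgroup.centralizer ({x} : Set G) ≤ F M := by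
  intro g hg
  have hgx : g * x = x * g := Subgroup.mem_centralizer_singleton_iff.mp hg
  have hgM : g ∈ M := by
    by_contra h
    have hmem : x ∈ F M ⊓ (MulAut.conj g • F M) := by
      refine Subgroup.mem_inf.mpr ⟨hx, ?_⟩
      rw [Subgroup.mem_pointwise_smul_iff_inv_smul_mem, ← map_inv, MulAut.smul_def,
        MulAut.conj_apply, inv_inv, mul_assoc, ← hgx, inv_mul_cancel_left]
      exact hx
    rw [hF.ti hM g h, Subgroup.mem_bot] at hmem
    exact hx1 hmem
  by_contra h
  exact hx1 (hF.free hM g hgM h x hx hgx.symm)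

theorem normalizer_eq {M : Subgroup G} (hM : IsMaxSolv M) (hne : F M ≠ ⊥) :
    Subgroup.normalizer (F M : Set G) = M := by
  refine le_antisymm (fun g hg => ?_) (hF.norm hM)
  by_contra h
  refine hne (le_bot_iff.mp fun x hx => ?_)
  rw [← hF.ti hM g h]
  refine Subgroup.mem_inf.mpr ⟨hx, ?_⟩
  rw [Subgroup.mem_pointwise_smul_iff_inv_smul_mem, ← map_inv, MulAut.smul_def, MulAut.conj_apply,
    inv_inv]
  exact (Subgroup.mem_normalizer_iff''.mp hg x).mp hx

variable (hns : ¬ Group.IsSolvable G)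
include hns

theorem maxSolv_ne_top {M : Subgroup G} (hM : IsMaxSolv M) : M ≠ ⊤ := by
  rintro rfl
  haveI := hM.1
  exact hns (solvable_of_surjective (f := (⊤ : Subgroup G).subtype) fun g => ⟨⟨g, trivial⟩, rfl⟩)

/-- There is no non-trivial abelian normal subgroup. -/
theorem abelian_normal_eq_bot {V : Subgroup G} (hVn : V.Normal)
    (hVc : ∀ a ∈ V, ∀ b ∈ V, a * b = b * a) : V = ⊥ := by
  by_contra hV
  haveI := hVn
  haveI : Fact (Nat.Prime 2) := ⟨Nat.prime_two⟩
  obtain ⟨v, hv, hv1⟩ := (Subgroup.bot_or_exists_ne_one V).resolve_left hV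
  have hVs : Group.IsSolvable V := isSolvable_of_comm fun a b => Subtype.ext (hVc a a.2 b b.2)
  have key : ∀ M, IsMaxSolv M → V ≤ M → IsMulCommutative M := by
    intro M hM hVM
    refine (hF.ne_bot hM).resolve_left fun hne => hne ?_
    have hdis : ∀ x ∈ V, x ∈ F M → x = 1 := by
      intro x hx hxF
      by_contra hx1
      have hVF : V ≤ F M := fun y hy =>
        hF.cent hM hxF hx1 (Subgroup.mem_centralizer_singleton_iff.mpr (hVc y hy x hx))
      refine hF.maxSolv_ne_top hns hM (top_le_iff.mp fun g _ => ?_)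
      by_contra hg
      have hmem : x ∈ F M ⊓ (MulAut.conj g • F M) := by
        refine Subgroup.mem_inf.mpr ⟨hxF, ?_⟩
        rw [Subgroup.mem_pointwise_smul_iff_inv_smul_mem, ← map_inv, MulAut.smul_def,
          MulAut.conj_apply]
        exact hVF (hVn.conj_mem x hx g⁻¹)
      rw [hF.ti hM g hg, Subgroup.mem_bot] at hmem
      exact hx1 hmem
    refine (Subgroup.eq_bot_iff_forall _).mpr fun f hf => ?_
    by_contra hf1
    have hfv : v * f * v⁻¹ * f⁻¹ = 1 := by
      refine hdis _ ?_ (mul_mem ((Subgroup.mem_normalizer_iff.mp (hF.norm hM (hVM hv)) f).mp hf)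
        (inv_mem hf))
      have := mul_mem hv (hVn.conj_mem _ (inv_mem hv) f)
      rwa [show v * (f * v⁻¹ * f⁻¹) = v * f * v⁻¹ * f⁻¹ by group] at this
    have hvF : v ∈ F M := hF.cent hM hf hf1
      (Subgroup.mem_centralizer_singleton_iff.mpr (commutatorElement_eq_one_iff_mul_comm.mp hfv))
    exact hv1 (hdis v hv hvF)
  obtain ⟨S⟩ : Nonempty (Sylow 2 G) := inferInstance
  have hcomm : ∀ H : Subgroup G, Group.IsSolvable H → ∀ a ∈ H, ∀ b ∈ H, a * b = b * a := by
    intro H hH a ha b hb
    obtain ⟨M, hM, hle⟩ := exists_isMaxSolv_ge (isSolvable_sup hVs hH)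
    have := key M hM (le_sup_right.trans hle)
    exact congrArg Subtype.val (this.is_comm.comm ⟨a, hle (Subgroup.mem_sup_left ha)⟩
      ⟨b, hle (Subgroup.mem_sup_left hb)⟩)
  refine hns (isSolvable_of_burnside S fun g hg => Subgroup.mem_centralizer_iff.mpr fun x hx => ?_)
  refine (hcomm (Subgroup.zpowers g ⊔ (S : Subgroup G)) ?_ g
    (Subgroup.mem_sup_left (Subgroup.mem_zpowers g)) x (Subgroup.mem_sup_right hx)).symm
  set K := Subgroup.zpowers g ⊔ (S : Subgroup G) with hK
  have hKN : K ≤ Subgroup.normalizer ((S : Subgroup G) : Set G) :=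
    sup_le (Subgroup.zpowers_le.mpr hg) Subgroup.le_normalizer
  haveI : ((S : Subgroup G).subgroupOf K).Normal :=
    (Subgroup.normal_subgroupOf_iff_le_normalizer le_sup_right).mpr hKN
  haveI : Group.IsNilpotent (S : Subgroup G) := S.isPGroup'.isNilpotent
  haveI : Group.IsSolvable ((S : Subgroup G).subgroupOf K) :=
    solvable_of_solvable_injective (f := (Subgroup.subgroupOfEquivOfLe (le_sup_right : (S : Subgroup G) ≤ K)).toMonoidHom)
      (MulEquiv.injective _)
  haveI : Group.IsSolvable (K ⧸ (S : Subgroup G).subgroupOf K) := Cfsg.Agent.S0205.result (by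
    rw [← Subgroup.index_eq_card, Nat.odd_iff, ← Nat.two_dvd_ne_zero]
    exact fun h => S.not_dvd_index (h.trans (Subgroup.relIndex_dvd_index_of_le le_sup_right)))
  exact solvable_of_ker_le_range ((S : Subgroup G).subgroupOf K).subtype
    (QuotientGroup.mk' ((S : Subgroup G).subgroupOf K)) (by simp)

/-- There is no non-trivial solvable normal subgroup. -/
theorem solvable_normal_eq_bot {R : Subgroup G} (hRn : R.Normal) (hRs : Group.IsSolvable R) :
    R = ⊥ := by
  by_contra hR
  obtain ⟨V, ⟨hVn, hVs, hV⟩, hmin⟩ := Set.Finite.exists_minimal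
    (Set.toFinite {V : Subgroup G | V.Normal ∧ Group.IsSolvable V ∧ V ≠ ⊥}) ⟨R, hRn, hRs, hR⟩
  haveI := hVn
  haveI := hVs
  have hle : ⁅V, V⁆ ≤ V := Subgroup.commutator_le_self V
  have hlt : ⁅V, V⁆ < V := by
    haveI : Nontrivial V := (Subgroup.nontrivial_iff_ne_bot _).mpr hV
    rw [← V.range_subtype, MonoidHom.range_eq_map, ← Subgroup.map_commutator,
      Subgroup.map_subtype_lt_map_subtype]
    exact Group.IsSolvable.commutator_lt_top_of_nontrivial _
  refine hV (hF.abelian_normal_eq_bot hns hVn fun a ha b hb => ?_)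
  by_contra hab
  refine hlt.not_ge (hmin ⟨inferInstance, solvable_of_solvable_injective
    (f := Subgroup.inclusion hle) (Subgroup.inclusion_injective hle), fun h => hab ?_⟩ hle)
  have := Subgroup.commutator_mem_commutator ha hb
  rw [h, Subgroup.mem_bot] at this
  exact commutatorElement_eq_one_iff_mul_comm.mp this

theorem center_eq_bot : Subgroup.center G = ⊥ :=
  hF.abelian_normal_eq_bot hns inferInstance fun a ha b _ => (Subgroup.mem_center_iff.mp ha b).symm

/-- A Sylow 2-subgroup lies in some `F M`. -/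
theorem exists_sylow_le : ∃ (M : Subgroup G) (S : Sylow 2 G), IsMaxSolv M ∧ (S : Subgroup G) ≤ F M ∧
    (S : Subgroup G) ≠ ⊥ := by
  haveI : Fact (Nat.Prime 2) := ⟨Nat.prime_two⟩
  obtain ⟨S⟩ : Nonempty (Sylow 2 G) := inferInstance
  have hS1 : (S : Subgroup G) ≠ ⊥ := by
    intro h
    refine hns (Cfsg.Agent.S0205.result ?_)
    rw [Nat.odd_iff, ← Nat.two_dvd_ne_zero]
    have := S.not_dvd_index
    rwa [h, Subgroup.index_bot] at this
  haveI : Group.IsNilpotent (S : Subgroup G) := S.isPGroup'.isNilpotent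
  set N := Subgroup.normalizer ((S : Subgroup G) : Set G) with hN
  haveI : Group.IsSolvable ((S : Subgroup G).subgroupOf N) :=
    solvable_of_solvable_injective (f := (Subgroup.subgroupOfEquivOfLe (Subgroup.le_normalizer : (S : Subgroup G) ≤ N)).toMonoidHom)
      (MulEquiv.injective _)
  haveI : ((S : Subgroup G).subgroupOf N).Normal := Subgroup.normal_in_normalizer
  haveI : Group.IsSolvable (N ⧸ (S : Subgroup G).subgroupOf N) := Cfsg.Agent.S0205.result (by
    rw [← Subgroup.index_eq_card, Nat.odd_iff, ← Nat.two_dvd_ne_zero]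
    exact fun h => S.not_dvd_index (h.trans (Subgroup.relIndex_dvd_index_of_le Subgroup.le_normalizer)))
  obtain ⟨M, hM, hNM⟩ := exists_isMaxSolv_ge (H := N) (solvable_of_ker_le_range
    ((S : Subgroup G).subgroupOf N).subtype (QuotientGroup.mk' ((S : Subgroup G).subgroupOf N)) (by simp))
  have hSM : (S : Subgroup G) ≤ M := Subgroup.le_normalizer.trans hNM
  refine ⟨M, S, hM, ?_, hS1⟩
  by_contra hle
  have hdis : ∀ x ∈ (S : Subgroup G), x ∈ F M → x = 1 := by
    intro x hx hxF
    by_contra hx1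
    set T := F M ⊓ (S : Subgroup G)
    haveI hTn : (T.subgroupOf (S : Subgroup G)).Normal := ⟨fun y hy g =>
      Subgroup.mem_subgroupOf.mpr ⟨(Subgroup.mem_normalizer_iff.mp (hF.norm hM (hSM g.2)) _).mp
        (Subgroup.mem_subgroupOf.mp hy).1, ((g * y * g⁻¹ : (S : Subgroup G))).2⟩⟩
    have hTne : T.subgroupOf (S : Subgroup G) ≠ ⊥ := fun h => hx1 (by
      have hm : (⟨x, hx⟩ : (S : Subgroup G)) ∈ T.subgroupOf (S : Subgroup G) :=
        Subgroup.mem_subgroupOf.mpr ⟨hxF, hx⟩
      rw [h, Subgroup.mem_bot] at hm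
      exact congrArg Subtype.val hm)
    obtain ⟨z, hz, hz1⟩ := (Subgroup.bot_or_exists_ne_one (T.subgroupOf (S : Subgroup G) ⊓
      Subgroup.center (S : Subgroup G))).resolve_left
        (Cfsg.Agent.Lib.Nilp.inf_center_ne_bot_of_normal hTne)
    have hzc := Subgroup.mem_center_iff.mp hz.2
    exact hle fun y hy => hF.cent hM (Subgroup.mem_subgroupOf.mp hz.1).1
      (fun e => hz1 (Subtype.ext e))
      (Subgroup.mem_centralizer_singleton_iff.mpr (congrArg Subtype.val (hzc ⟨y, hy⟩)))
  rcases hF.ne_bot hM with hne | hab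
  · -- a single involution: Glauberman
    obtain ⟨s, hs⟩ := exists_prime_orderOf_dvd_card' (G := (S : Subgroup G)) 2
      ((S.isPGroup'.card_eq_or_dvd).resolve_left fun h => hS1 (Subgroup.card_eq_one.mp h))
    have hu : orderOf (s : G) = 2 := (Subgroup.orderOf_coe s).trans hs
    have hinv : ∀ t : G, orderOf t = 2 → t ∈ (S : Subgroup G) → ∀ f ∈ F M, t * f * t⁻¹ = f⁻¹ := by
      intro t ht htS
      refine CIT.inv_of_fixedPointFree (SECount.invo_sq ht)
        (fun x hx => (Subgroup.mem_normalizer_iff.mp (hF.norm hM (hSM htS)) x).mp hx) fun x hx e => ?_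
      exact hF.free hM t (hSM htS) (fun htF => SECount.invo_ne_one ht (hdis t htS htF)) x hx e.symm
    have huniq : ∀ t : G, orderOf t = 2 → t ∈ (S : Subgroup G) → t = s := by
      intro t ht htS
      obtain ⟨f, hf, hf1⟩ := (Subgroup.bot_or_exists_ne_one (F M)).resolve_left hne
      have hc : (t * s) * f * (t * s)⁻¹ = f := by
        calc (t * s) * f * (t * s)⁻¹ = t * ((s : G) * f * (s : G)⁻¹) * t⁻¹ := by group
          _ = (t * f * t⁻¹)⁻¹ := by rw [hinv s hu s.2 f hf]; group
          _ = f := by rw [hinv t ht htS f hf, inv_inv]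
      have hmem : t * s ∈ F M := hF.cent hM hf hf1
        (Subgroup.mem_centralizer_singleton_iff.mpr (mul_inv_eq_iff_eq_mul.mp hc))
      have := hdis _ (mul_mem htS s.2) hmem
      rw [eq_inv_of_mul_eq_one_left this, SECount.invo_inv hu]
    obtain ⟨K, hKn, hKodd, hK⟩ := Cfsg.Agent.S0215.result S (s : G) hu s.2 fun g hg =>
      huniq _ ((SECount.orderOf_conj_eq g s).trans hu) hg
    have hKbot := hF.solvable_normal_eq_bot hns hKn (Cfsg.Agent.S0205.result hKodd)
    have hcen : (s : G) ∈ Subgroup.center G := Subgroup.mem_center_iff.mpr fun g => by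
      have := hK g
      rw [hKbot, Subgroup.mem_bot] at this
      exact (commutatorElement_eq_one_iff_mul_comm.mp this).symm
    rw [hF.center_eq_bot hns, Subgroup.mem_bot] at hcen
    exact SECount.invo_ne_one hu hcen
  · refine hns (isSolvable_of_burnside S fun g hg => Subgroup.mem_centralizer_iff.mpr fun x hx => ?_)
    exact congrArg Subtype.val (hab.is_comm.comm ⟨x, hSM hx⟩ ⟨g, hNM hg⟩)

theorem ne_self {M : Subgroup G} (hM : IsMaxSolv M) (hne : F M ≠ ⊥) : F M ≠ M := by
  intro he
  have hFC : Cfsg.IsFrobeniusComplement M :=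
    ⟨fun h => hne (he.trans h), hF.maxSolv_ne_top hns hM, fun g hg => by
      have := hF.ti hM g hg
      rwa [he] at this⟩
  obtain ⟨K, hKset, hKn, hKc⟩ := Cfsg.Agent.S0035.result M hFC
  obtain ⟨K', hK'set, -, hK'nil⟩ := Cfsg.Agent.S0042.result M hFC
  obtain rfl : K = K' := SetLike.coe_injective (hKset.trans hK'set.symm)
  haveI := hKn
  haveI := hK'nil
  haveI := hM.1
  haveI : Group.IsSolvable (G ⧸ K) :=
    solvable_of_surjective (f := hKc.symm.QuotientMulEquiv.symm.toMonoidHom)
      hKc.symm.QuotientMulEquiv.symm.surjective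
  exact hns (solvable_of_ker_le_range K.subtype (QuotientGroup.mk' K) (by simp))

/-- The configuration of the CN-group analysis. -/
theorem exists_ctx : ∃ (H M : Subgroup G) (S : Sylow 2 G), CNCIT.Ctx H M ∧ (S : Subgroup G) ≤ H ∧
    ¬ M ≤ H := by
  haveI : Fact (Nat.Prime 2) := ⟨Nat.prime_two⟩
  obtain ⟨M, S, hM, hSF, hS1⟩ := hF.exists_sylow_le hns
  have hne : F M ≠ ⊥ := fun h => hS1 (le_bot_iff.mp (h ▸ hSF))
  have h2 : 2 ∣ Nat.card (S : Subgroup G) :=
    (S.isPGroup'.card_eq_or_dvd).resolve_left fun h => hS1 (Subgroup.card_eq_one.mp h)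
  refine ⟨F M, M, S, ⟨hF.normalizer_eq hM hne, ?_, fun x hx hx1 => hF.cent hM hx hx1, ?_,
    hF.maxSolv_ne_top hns hM, h2.trans (Subgroup.card_dvd_of_le hSF)⟩, hSF,
    fun hle => hF.ne_self hns hM hne (le_antisymm (hF.le hM) hle)⟩
  · intro g hg x hx hgx
    have hmem : x ∈ F M ⊓ (MulAut.conj g • F M) := by
      refine Subgroup.mem_inf.mpr ⟨hx, ?_⟩
      rw [Subgroup.mem_pointwise_smul_iff_inv_smul_mem, ← map_inv, MulAut.smul_def,
        MulAut.conj_apply, inv_inv]
      exact hgx
    rwa [hF.ti hM g hg, Subgroup.mem_bot] at hmem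
  · refine Nat.coprime_of_dvd fun r hr hrF hri => ?_
    haveI := Fact.mk hr
    obtain ⟨f, hf⟩ := exists_prime_orderOf_dvd_card' (G := F M) r hrF
    have hf' : orderOf (f : G) = r := (Subgroup.orderOf_coe f).trans hf
    obtain ⟨P, hP⟩ := (IsPGroup.of_card (n := 1) (by
      rw [pow_one, Nat.card_zpowers, hf'] : Nat.card (Subgroup.zpowers (f : G)) = r ^ 1)).exists_le_sylow
    have hfP : (f : G) ∈ (P : Subgroup G) := hP (Subgroup.mem_zpowers _)
    have hf1 : (f : G) ≠ 1 := fun e => hr.one_lt.ne' (hf'.symm.trans (orderOf_eq_one_iff.mpr e))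
    haveI : Nontrivial (P : Subgroup G) := ⟨⟨⟨f, hfP⟩, 1, fun e => hf1 (congrArg Subtype.val e)⟩⟩
    haveI := P.isPGroup'.center_nontrivial
    obtain ⟨z, hz⟩ := exists_ne (1 : Subgroup.center (P : Subgroup G))
    have hzc := Subgroup.mem_center_iff.mp z.2
    have hzF : ((z : (P : Subgroup G)) : G) ∈ F M := hF.cent hM f.2 hf1
      (Subgroup.mem_centralizer_singleton_iff.mpr (congrArg Subtype.val (hzc ⟨f, hfP⟩)).symm)
    have hPF : (P : Subgroup G) ≤ F M := fun y hy =>
      hF.cent hM hzF (fun e => hz (Subtype.ext (Subtype.ext e)))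
        (Subgroup.mem_centralizer_singleton_iff.mpr (congrArg Subtype.val (hzc ⟨y, hy⟩)))
    exact P.not_dvd_index (hri.trans (Subgroup.index_dvd_of_le hPF))

end Sys

end Cfsg.Agent.Lib.FrobSystem
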