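import Cfsg.Agent.Lib.FrobSystem.Zassenhaus
import Cfsg.Agent.Lib.SuzukiUniq.Zassenhaus
import Cfsg.Agent.Lib.SelfCentNoncyclic.PSL
import Cfsg.Agent.Lib.BrauerReynolds.Corollaries
import Cfsg.Agent.Lib.LinGroup.Simple
import Cfsg.Agent.S0494

/-!
Frobenius systems: identification with `SL₂(2ⁿ)` and the Suzuki groups.
-/

set_option autoImplicit false
set_option linter.unusedSectionVars false
set_option linter.style.haveILetI false

namespace Cfsg.Agent.Lib.FrobSystem

open Subgroup Cfsg.Agent.Lib.SECount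
open Cfsg.Agent.Lib.CNCIT (Ctx)
open Cfsg.Agent.Lib.CIT (twoPt mem_twoPt)

universe u

/-- The order equation forces `q = 5`. -/
theorem eq_five {q m e d : ℕ} (hm : m = q - 1 ∧ q % 4 = 1 ∨ m = q + 1 ∧ q % 4 = 3) (hq : 3 ≤ q)
    (hd : d + 1 = 2 ^ e) (hd3 : 2 ≤ d) (hm2 : ∃ k, m = 2 ^ k)
    (hcard : 2 * ((m + 1) * (m * d)) = (q + 1) * (q * (q - 1))) : q = 5 := by
  obtain ⟨r, rfl⟩ : ∃ r, q = r + 1 := ⟨q - 1, by omega⟩
  rw [Nat.add_sub_cancel] at hcard hm
  obtain ⟨k, hk⟩ := hm2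
  rcases hm with ⟨hmr, h4⟩ | ⟨rfl, h4⟩
  · subst hmr
    have h1 : 2 * d = m + 2 := by
      refine Nat.eq_of_mul_eq_mul_left (Nat.mul_pos (Nat.succ_pos m) (by omega : 0 < m)) ?_
      calc (m + 1) * m * (2 * d) = 2 * ((m + 1) * (m * d)) := by ring
        _ = (m + 1 + 1) * ((m + 1) * m) := hcard
        _ = (m + 1) * m * (m + 2) := by ring
    subst hk
    obtain ⟨j, rfl⟩ : ∃ j, k = j + 1 := by
      rcases k with _ | j
      · omega
      · exact ⟨j, rfl⟩
    rw [pow_succ] at h1 h4 hq ⊢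
    -- `2 ^ j + 2 = 2 ^ e`
    have h2 : 2 ^ j + 2 = 2 ^ e := by omega
    have hj : j = 1 := by
      rcases e with _ | _ | e
      · omega
      · omega
      rcases j with _ | _ | j
      · simp only [pow_succ] at h2 ⊢
        omega
      · rfl
      · simp only [pow_succ] at h2
        omega
    subst hj
    rfl
  · exfalso
    have h1 : 2 * ((r + 1 + 1 + 1) * d) = (r + 1) * r := by
      refine Nat.eq_of_mul_eq_mul_left (show 0 < r + 1 + 1 by omega) ?_
      calc (r + 1 + 1) * (2 * ((r + 1 + 1 + 1) * d))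
          = 2 * ((r + 1 + 1 + 1) * ((r + 1 + 1) * d)) := by ring
        _ = _ := hcard
    have h2 : r + 3 ∣ (r + 1) * r := ⟨2 * d, by linarith⟩
    have h3 : r + 3 ∣ 6 := by
      have e : (r + 1) * r + (r + 3) * 2 = (r + 3) * r + 6 := by ring
      have h := Nat.dvd_add h2 (dvd_mul_right (r + 3) 2)
      rw [e] at h
      exact (Nat.dvd_add_right (dvd_mul_right (r + 3) r)).mp h
    have h5 := Nat.le_of_dvd (by norm_num) h3
    have : r = 2 := by omega
    subst this
    norm_num at h3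

variable {G : Type u} [Group G] [Finite G] {H M : Subgroup G}

/-- `|G| = (|H| + 1) |H| i`, `i` the number of involutions of `M`, one less than a power of two. -/
theorem card_eq_of_ctx (c : Ctx H M) (hH2 : IsPGroup 2 H) (hcard : Nat.card (G ⧸ M) = Nat.card H + 1)
    {u : G} (hu : orderOf u = 2) (huM : u ∉ M) :
    ∃ d e : ℕ, d + 1 = 2 ^ e ∧ d = Nat.card {t : G // orderOf t = 2 ∧ t ∈ M} ∧
      Nat.card G = (Nat.card H + 1) * (Nat.card H * d) := by
  classical
  have hcomm := (c.counting hu huM).2.2.2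
  let E : Subgroup G :=
    { carrier := {x | x ∈ H ∧ x * x = 1}
      one_mem' := ⟨H.one_mem, mul_one 1⟩
      mul_mem' := by
        rintro a b ⟨ha, ha2⟩ ⟨hb, hb2⟩
        refine ⟨H.mul_mem ha hb, ?_⟩
        rcases eq_or_ne b 1 with rfl | hb1
        · rw [mul_one, ha2]
        have e := hcomm b (invo_of_sq hb1 hb2) hb a ha
        calc a * b * (a * b) = a * (b * a) * b := by group
          _ = a * (a * b) * b := by rw [e]
          _ = (a * a) * (b * b) := by group
          _ = 1 := by rw [ha2, hb2, mul_one]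
      inv_mem' := by
        rintro a ⟨ha, ha2⟩
        exact ⟨H.inv_mem ha, by rw [← mul_inv_rev, ha2, inv_one]⟩ }
  have hE : IsPGroup 2 E := hH2.to_le fun x hx => hx.1
  obtain ⟨e, he⟩ := IsPGroup.iff_card.1 hE
  refine ⟨_, e, ?_, rfl, ?_⟩
  · rw [← he, ← Finite.card_option]
    refine Nat.card_eq_of_bijective (fun o : Option {t : G // orderOf t = 2 ∧ t ∈ M} =>
      o.elim (1 : E) fun t => ⟨t.1, c.invo_mem t.2.1 t.2.2, invo_sq t.2.1⟩) ⟨?_, ?_⟩
    · rintro (_ | a) (_ | b) e'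
      · rfl
      · exact absurd (congrArg Subtype.val e').symm (invo_ne_one b.2.1)
      · exact absurd (congrArg Subtype.val e') (invo_ne_one a.2.1)
      · simp only [Option.elim_some, Subtype.mk.injEq] at e'
        exact congrArg some (Subtype.ext e')
    · rintro ⟨x, hx, hx2⟩
      by_cases hx1 : x = 1
      · exact ⟨none, Subtype.ext hx1.symm⟩
      · exact ⟨some ⟨x, invo_of_sq hx1 hx2, c.le hx⟩, rfl⟩
  · rw [← M.index_mul_card, Subgroup.index_eq_card, hcard, ← (c.counting hu huM).1, ← Nat.card_prod]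
    congr 1
    refine (Nat.card_eq_of_bijective (fun p : H × twoPt M u =>
      (⟨(p.1 : G) * p.2, M.mul_mem (c.le p.1.2) p.2.2.1⟩ : M)) ⟨?_, ?_⟩).symm
    · rintro ⟨a, d⟩ ⟨a', d'⟩ e'
      have e'' : (a : G) * d = a' * d' := congrArg Subtype.val e'
      have h1 : (a' : G)⁻¹ * a = d' * (d : G)⁻¹ := by
        rw [inv_mul_eq_iff_eq_mul, ← mul_assoc, ← e'', mul_inv_cancel_right]
      have h2 : (d' : G) * (d : G)⁻¹ = 1 := c.inf_twoPt huM
        ((twoPt M u).mul_mem d'.2 ((twoPt M u).inv_mem d.2)) (h1 ▸ H.mul_mem (H.inv_mem a'.2) a.2)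
      exact Prod.ext (Subtype.ext (inv_mul_eq_one.1 (h1.trans h2)).symm)
        (Subtype.ext (mul_inv_eq_one.1 h2).symm)
    · rintro ⟨m, hm⟩
      obtain ⟨a, ha, d, hd, rfl⟩ := (c.counting hu huM).2.2.1 m hm
      exact ⟨(⟨a, ha⟩, ⟨d, hd⟩), rfl⟩

/-- A non-solvable group with a Frobenius system is `SL₂(2ⁿ)` or a Suzuki group. -/
theorem classify {F : Subgroup G → Subgroup G} (hF : Sys F) (hns : ¬ Group.IsSolvable G) :
    (∃ (K : Type) (_ : Field K) (_ : Fintype K), (∃ n : ℕ, 2 ≤ n ∧ Fintype.card K = 2 ^ n) ∧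
      Nonempty (G ≃* Matrix.SpecialLinearGroup (Fin 2) K)) ∨ Cfsg.Lie.IsoSuzuki G := by
  classical
  haveI := Fact.mk Nat.prime_two
  obtain ⟨H, M, S, c, hSH, hMH⟩ := hF.exists_ctx hns
  obtain ⟨hZ, hcard, hsimp, u, hu, huM, hI⟩ := zassenhaus_of_ctx c hMH
    fun N hN hNs => hF.solvable_normal_eq_bot hns hN hNs
  haveI := hsimp
  have hH2 := c.isPGroup_two
  obtain ⟨d, e, hd, hdI, hG⟩ := card_eq_of_ctx c hH2 hcard hu huM
  rcases SuzukiUniq.psl_or_isoSuzuki hZ with ⟨K, iK, iKf, ⟨φ⟩⟩ | hSz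
  swap
  · exact Or.inr hSz
  left
  have hd2 : 2 ≤ d := by omega
  have hH1 : 2 ≤ Nat.card H := Nat.le_of_dvd Nat.card_pos c.even
  have hG12 : 7 ≤ Nat.card G := by
    rw [hG]
    have := Nat.mul_le_mul (show 3 ≤ Nat.card H + 1 by omega) (Nat.mul_le_mul hH1 hd2)
    omega
  by_cases h2 : (2 : K) = 0
  · -- characteristic two
    haveI : CharP K 2 := CharTwo.of_one_ne_zero_of_two_eq_zero one_ne_zero h2
    obtain ⟨n, -, hn⟩ := FiniteField.card K 2
    obtain ⟨ψ⟩ := BrauerReynolds.nonempty_SL_equiv_PSL hn n.pos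
    refine ⟨K, iK, iKf, ⟨n, ?_, hn⟩, ⟨φ.trans ψ.symm⟩⟩
    by_contra hn2
    have hn1 : (n : ℕ) = 1 := le_antisymm (by omega) n.pos
    have h6 : Nat.card G ≤ 6 := by
      rw [Nat.card_congr (φ.trans ψ.symm).toEquiv]
      have h := LinGroup.card_SL_mul (F := K) 2 (by norm_num)
      rw [hn, hn1] at h
      norm_num [Fin.prod_univ_two, Nat.card_eq_fintype_card] at h ⊢
      omega
    omega
  · -- odd characteristic: only the field of five elements
    have hodd : Odd (Fintype.card K) := Lib.SL2.two_ne_zero_iff_odd.1 h2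
    obtain ⟨t, ht, htM⟩ := exists_invo_mem c.stronglyEmbedded
    have htH := c.invo_mem ht htM
    have hcent : Subgroup.centralizer ({t} : Set G) = H := le_antisymm (c.cent t htH (invo_ne_one ht))
      fun a ha => Subgroup.mem_centralizer_singleton_iff.2 ((c.counting hu huM).2.2.2 t ht htH a ha)
    have hx : φ t * φ t = 1 := by rw [← map_mul, invo_sq ht, map_one]
    have hx1 : φ t ≠ 1 := fun h => invo_ne_one ht (φ.injective (h.trans (map_one φ).symm))
    obtain ⟨g, hg, htr⟩ := SelfCentNoncyclic.exists_lift_tr_zero h2 hx hx1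
    have hCcard : Nat.card (Subgroup.centralizer ({φ t} : Set (SL2.PSLtwo K))) = Nat.card H := by
      rw [← hcent]
      refine (Nat.card_congr (φ.toEquiv.subtypeEquiv fun x => ?_)).symm
      rw [Subgroup.mem_centralizer_singleton_iff, Subgroup.mem_centralizer_singleton_iff]
      exact ⟨fun h => by rw [MulEquiv.toEquiv_eq_coe, EquivLike.coe_coe, ← map_mul, h, map_mul],
        fun h => φ.injective (by
          rw [MulEquiv.toEquiv_eq_coe, EquivLike.coe_coe] at h
          rw [map_mul, map_mul, h])⟩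
    have hm : Nat.card H = Fintype.card K - 1 ∧ Fintype.card K % 4 = 1 ∨
        Nat.card H = Fintype.card K + 1 ∧ Fintype.card K % 4 = 3 := by
      rcases SelfCentNoncyclic.card_centralizer_involution h2 htr with ⟨h4, hc⟩ | ⟨h4, hc⟩
      · exact Or.inl ⟨by rw [← hCcard, ← hg]; exact hc, h4⟩
      · exact Or.inr ⟨by rw [← hCcard, ← hg]; exact hc, h4⟩
    have hq3 : 3 ≤ Fintype.card K := by
      obtain ⟨j, hj⟩ := hodd
      have := Fintype.one_lt_card (α := K)
      omega
    have hq5 : Fintype.card K = 5 := by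
      refine eq_five hm hq3 hd hd2 (IsPGroup.iff_card.1 hH2) ?_
      rw [← Lib.Perm.ZassenhausPGL.card_PSL_two hodd, ← Nat.card_congr φ.toEquiv, hG]
    have h60 : Nat.card G = 60 := by
      have := Lib.Perm.ZassenhausPGL.card_PSL_two (K := K) hodd
      rw [← Nat.card_congr φ.toEquiv, hq5] at this
      omega
    haveI : Fintype (GaloisField 2 2) := Fintype.ofFinite _
    have hcard4 : Fintype.card (GaloisField 2 2) = 2 ^ 2 := by
      rw [← Nat.card_eq_fintype_card]; exact GaloisField.card 2 2 (by norm_num)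
    obtain ⟨ψ⟩ := BrauerReynolds.nonempty_SL_equiv_PSL hcard4 (by norm_num)
    haveI := LinGroup.isSimpleGroup_PSL_fin (F := GaloisField 2 2) (n := 2) le_rfl
      (fun _ => by rw [Nat.card_eq_fintype_card, hcard4]; norm_num)
    have h60' : Nat.card (Matrix.ProjectiveSpecialLinearGroup (Fin 2) (GaloisField 2 2)) = 60 := by
      rw [← Nat.card_congr ψ.toEquiv]
      have h := LinGroup.card_SL_mul (F := GaloisField 2 2) 2 (by norm_num)
      rw [hcard4] at h
      norm_num [Fin.prod_univ_two, Nat.card_eq_fintype_card] at h ⊢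
      omega
    obtain ⟨e1⟩ := Cfsg.Agent.S0494.result (G := G) h60
    obtain ⟨e2⟩ := Cfsg.Agent.S0494.result h60'
    exact ⟨GaloisField 2 2, inferInstance, inferInstance, ⟨2, le_rfl, hcard4⟩,
      ⟨(e1.trans e2.symm).trans ψ.symm⟩⟩

end Cfsg.Agent.Lib.FrobSystem
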