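import Cfsg.Agent.Lib.FrobSystem.Basic
import Cfsg.Agent.Lib.Zassenhaus.OddDegree

/-!
Frobenius systems: the strongly embedded normaliser gives a Zassenhaus group of odd degree.
-/

set_option autoImplicit false
set_option linter.unusedSectionVars false
set_option linter.style.haveILetI false

namespace Cfsg.Agent.Lib.FrobSystem

open Subgroup Cfsg.Agent.Lib.SECount
open Cfsg.Agent.Lib.CNCIT (Ctx)
open Cfsg.Agent.Lib.CIT (twoPt mem_twoPt smul_mk_eq_iff smul_one_eq_iff)

universe u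

variable {G : Type u} [Group G] [Finite G] {H M : Subgroup G}

/-- Without solvable normal subgroups and with `M ≠ H` the coset action is a Zassenhaus action
of degree `|H| + 1`, and the group is simple. -/
theorem zassenhaus_of_ctx (c : Ctx H M) (hMH : ¬ M ≤ H)
    (hR : ∀ N : Subgroup G, N.Normal → Group.IsSolvable N → N = ⊥) :
    Cfsg.IsZassenhausGroup G (G ⧸ M) ∧ Nat.card (G ⧸ M) = Nat.card H + 1 ∧ IsSimpleGroup G ∧
      ∃ u : G, orderOf u = 2 ∧ u ∉ M ∧
        1 < Nat.card {t : G // orderOf t = 2 ∧ t ∈ M} := by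
  classical
  haveI := Fact.mk Nat.prime_two
  have hse := c.stronglyEmbedded
  obtain ⟨u, hu, huM⟩ := exists_invo_not_mem hse
  obtain ⟨t, ht, htH⟩ := c.exists_invo
  haveI : Nonempty {t : G // orderOf t = 2 ∧ t ∈ M} := ⟨⟨t, ht, c.le htH⟩⟩
  have hI : 1 < Nat.card {t : G // orderOf t = 2 ∧ t ∈ M} := by
    by_contra hle
    have hI1 : Nat.card {t : G // orderOf t = 2 ∧ t ∈ M} = 1 := by
      have := Nat.card_pos (α := {t : G // orderOf t = 2 ∧ t ∈ M})
      omega
    have hD : twoPt M u = ⊥ := Subgroup.eq_bot_of_card_eq _ ((c.counting hu huM).1.trans hI1)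
    refine hMH fun m hm => ?_
    obtain ⟨a, ha, d, hd, rfl⟩ := (c.counting hu huM).2.2.1 m hm
    rw [hD, Subgroup.mem_bot] at hd
    rwa [hd, mul_one]
  set o : G ⧸ M := QuotientGroup.mk 1 with ho
  set p : G ⧸ M := QuotientGroup.mk u with hp
  letI := Fintype.ofFinite (G ⧸ M)
  have hop : o ≠ p := fun e => huM (smul_one_eq_iff.1 (by
    rw [MulAction.Quotient.smul_mk, smul_eq_mul, mul_one]; exact e.symm))
  have hnot : ∀ a ∈ H, a • p ≠ o := fun a ha e => hop (smul_left_cancel a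
    ((smul_one_eq_iff.2 (c.le ha) : a • o = o).trans e.symm))
  have hreg₀ : ∀ a ∈ H, ∀ b ∈ H, a • p = b • p → a = b := fun a ha b hb e =>
    inv_mul_eq_one.1 (c.free huM (H.mul_mem (H.inv_mem ha) hb)
      (show (a⁻¹ * b) • p = p by rw [mul_smul, ← e, inv_smul_smul]))
  have hpair : ∀ a b : G ⧸ M, a ≠ b → ∃ g : G, g • o = a ∧ g • p = b := by
    intro a b hab
    obtain ⟨g₀, rfl⟩ := QuotientGroup.mk_surjective a
    have hg₀ : g₀ • o = (QuotientGroup.mk g₀ : G ⧸ M) := by
      rw [ho, MulAction.Quotient.smul_mk, smul_eq_mul, mul_one]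
    obtain ⟨a', ha', e⟩ := c.orbit hu huM hI (q := g₀⁻¹ • b)
      (fun e => hab (by rw [← hg₀, ho, ← e, smul_inv_smul]))
    exact ⟨g₀ * a', by rw [mul_smul, smul_one_eq_iff.2 (c.le ha'), hg₀],
      by rw [mul_smul, ← e, smul_inv_smul]⟩
  have hstab : ∀ x : G, x • o = o → x • p = p → x ∈ twoPt M u := fun x h1 h2 =>
    mem_twoPt.2 ⟨smul_one_eq_iff.1 h1, smul_mk_eq_iff.1 h2⟩
  have h3 : ∀ g : G, ∀ a b d : G ⧸ M, a ≠ b → b ≠ d → a ≠ d → g • a = a → g • b = b → g • d = d →
      g = 1 := by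
    intro g a b d hab hbd had ha hb hd
    obtain ⟨k, rfl, rfl⟩ := hpair a b hab
    have hxD : k⁻¹ * g * k ∈ twoPt M u := hstab _
      (by rw [mul_smul, mul_smul, ha, inv_smul_smul]) (by rw [mul_smul, mul_smul, hb, inv_smul_smul])
    by_contra hg1
    have hx1 : k⁻¹ * g * k ≠ 1 := fun e => hg1 (by
      rw [show g = k * (k⁻¹ * g * k) * k⁻¹ by group, e, mul_one, mul_inv_cancel])
    rcases c.fixed_twoPt hu huM hxD hx1 (q := k⁻¹ • d)
      (by rw [mul_smul, mul_smul, smul_inv_smul, hd]) with e | e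
    · exact had (by rw [← smul_inv_smul k d, e])
    · exact hbd (by rw [← smul_inv_smul k d, e])
  have hHcard : Nat.card (G ⧸ M) = Nat.card H + 1 := by
    rw [← Finite.card_option]
    refine (Nat.card_eq_of_bijective
      (fun o' : Option H => o'.elim o fun a => (a : G) • p) ⟨?_, fun q => ?_⟩).symm
    · rintro (_ | a) (_ | b) e
      · rfl
      · exact absurd e.symm (hnot b b.2)
      · exact absurd e (hnot a a.2)
      · exact congrArg some (Subtype.ext (hreg₀ a a.2 b b.2 e))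
    · by_cases hq : q = o
      · exact ⟨none, hq.symm⟩
      · obtain ⟨a, ha, e⟩ := c.orbit hu huM hI hq
        exact ⟨some ⟨a, ha⟩, e.symm⟩
  have h2card : 2 ≤ Nat.card H := Nat.le_of_dvd Nat.card_pos c.even
  have hoddcard : Odd (Nat.card (G ⧸ M)) := by
    rw [hHcard]
    exact (even_iff_two_dvd.2 c.even).add_one
  have hthird : ∀ a b : G ⧸ M, ∃ d, d ≠ a ∧ d ≠ b := by
    intro a b
    obtain ⟨d, -, hd⟩ := Finset.exists_mem_notMem_of_card_lt_card
      (s := ({a, b} : Finset (G ⧸ M))) (t := Finset.univ) (Finset.card_le_two.trans_lt (by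
        rw [Finset.card_univ, ← Nat.card_eq_fintype_card, hHcard]; omega))
    simp only [Finset.mem_insert, Finset.mem_singleton, not_or] at hd
    exact ⟨d, hd⟩
  obtain ⟨d₀, hd₀, hd₀1⟩ : ∃ d ∈ twoPt M u, d ≠ 1 := by
    by_contra hc
    push Not at hc
    have := (c.counting hu huM).1
    rw [(Subgroup.eq_bot_iff_forall _).2 hc, Subgroup.card_bot] at this
    omega
  have hZ : Cfsg.IsZassenhausGroup G (G ⧸ M) := by
    refine ⟨⟨fun {g g'} e => ?_⟩, MulAction.is_two_pretransitive_iff.2 fun hab hcd => ?_, h3,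
      ⟨d₀, hd₀1, o, p, hop, smul_one_eq_iff.2 hd₀.1, smul_mk_eq_iff.2 (mem_twoPt.1 hd₀).2⟩, ?_⟩
    · obtain ⟨d, hd1, hd2⟩ := hthird o p
      exact (inv_mul_eq_one.1 (h3 (g'⁻¹ * g) o p d hop hd2.symm hd1.symm
        (by rw [mul_smul, e, inv_smul_smul]) (by rw [mul_smul, e, inv_smul_smul])
        (by rw [mul_smul, e, inv_smul_smul]))).symm
    · obtain ⟨g₁, h11, h12⟩ := hpair _ _ hab
      obtain ⟨g₂, h21, h22⟩ := hpair _ _ hcd
      exact ⟨g₂ * g₁⁻¹, by rw [mul_smul, ← h11, inv_smul_smul, h21],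
        by rw [mul_smul, ← h12, inv_smul_smul, h22]⟩
    · intro N hN hNt
      by_contra hc
      push Not at hc
      have hcard : Nat.card N = Nat.card (G ⧸ M) := by
        refine Nat.card_eq_of_bijective (fun n : N => n • o)
          ⟨fun a b e => ?_, fun q => hNt.exists_smul_eq o q⟩
        have : a⁻¹ * b ∈ MulAction.stabilizer N o := MulAction.mem_stabilizer_iff.2 (by
          show (a⁻¹ * b) • o = o
          rw [mul_smul, ← show a • o = b • o from e, inv_smul_smul])
        exact inv_mul_eq_one.1 ((Subgroup.eq_bot_iff_forall _).1 (hc o) _ this)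
      obtain rfl := hR N hN (Cfsg.Agent.S0205.result (hcard ▸ hoddcard))
      obtain ⟨n, hn⟩ := hNt.exists_smul_eq o p
      rw [Subgroup.smul_def, Subgroup.mem_bot.1 n.2, one_smul] at hn
      exact hop hn
  refine ⟨hZ, hHcard, ?_, u, hu, huM, hI⟩
  exact Zassenhaus.isSimpleGroup_of_odd hZ (by rw [← Nat.card_eq_fintype_card]; exact hoddcard)

end Cfsg.Agent.Lib.FrobSystem
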